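import Cfsg.Agent.Lib.Sporadic.J4Pres.Group
import Cfsg.Agent.Lib.Sporadic.J4Pres.DerP.Valid
import Cfsg.Agent.Lib.Sporadic.J4Pres.DerT.Valid
import Cfsg.Agent.Lib.Sporadic.J4Pres.Small.Valid
import Cfsg.Agent.Lib.Sporadic.J4Pres.Mid.Valid
import Cfsg.Agent.Lib.Sporadic.J4Pres.Top.Valid

/-!
# The presented group has order at most twelve times that of M24 (owner: helper21)
-/

set_option autoImplicit false
set_option maxRecDepth 20000

namespace CfsgLib.Sporadic.J4Pres

open CfsgLib.Sporadic.PairEnum

/-- The first derived relator. -/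
def p12 : List ℕ := rep 12 (0 :: vWord)

/-- The second derived relator. -/
def t4 : List ℕ := rep 4 ([0] ++ vWord ++ [0] ++ vWord ++ [0] ++ vInv)

theorem derP_rels : DerP.cert.rels.all (fun w => words7.contains (w.flatMap ew)) = true := by decide +kernel

theorem derT_rels : DerT.cert.rels.all (fun w => words7.contains (w.flatMap ew)) = true := by decide +kernel

theorem flatMap_ew_low : ∀ w : List ℕ, (∀ k ∈ w, k < 4) → w.flatMap ew = w
  | [], _ => rfl
  | k :: w, h => by
    have hk : k < 4 := h k List.mem_cons_self
    rw [List.flatMap_cons, flatMap_ew_low w fun j hj => h j (List.mem_cons_of_mem _ hj)]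
    interval_cases k <;> rfl

theorem val_p12 : val p12 = 1 := by
  have hS := setup ew_flp rfl (C := DerP.cert) fun w hw =>
    val_rel (by simpa using List.all_eq_true.1 derP_rels w hw)
  obtain ⟨e, he, he'⟩ := List.mem_map.1 (show p12 ∈ DerP.closers.map Prod.fst from
    (show DerP.closers.map Prod.fst = [p12] by decide +kernel) ▸ List.mem_singleton_self _)
  have h := Cert.closer_eq_one hS DerP.base_ok DerP.defs_ok DerP.steps_ok rfl DerP.closers_ok e he
  rw [he', prod_actLetter, inv_eq_one, flatMap_ew_low p12 (by decide +kernel)] at h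
  exact h

theorem val_t4 : val t4 = 1 := by
  have hS := setup ew_flp rfl (C := DerT.cert) fun w hw =>
    val_rel (by simpa using List.all_eq_true.1 derT_rels w hw)
  obtain ⟨e, he, he'⟩ := List.mem_map.1 (show t4 ∈ DerT.closers.map Prod.fst from
    (show DerT.closers.map Prod.fst = [t4] by decide +kernel) ▸ List.mem_singleton_self _)
  have h := Cert.closer_eq_one hS DerT.base_ok DerT.defs_ok DerT.steps_ok rfl DerT.closers_ok e he
  rw [he', prod_actLetter, inv_eq_one, flatMap_ew_low t4 (by decide +kernel)] at h
  exact h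

theorem val_v_cube : val (vWord ++ vWord ++ vWord) = 1 := by
  simp [val, vWord, L_three, mul_assoc, L_zero_mul, L_two_cube]

/-- All words known to be trivial. -/
def known : List (List ℕ) :=
  words7 ++ [p12, t4, vInv ++ vWord, wInv ++ wWord, vWord ++ vWord ++ vWord]

theorem val_known {w : List ℕ} (h : known.contains w = true) : val w = 1 := by
  simp only [known, List.contains_iff_mem, List.mem_append, List.mem_cons, List.not_mem_nil, or_false] at h
  rcases h with h | rfl | rfl | rfl | rfl | rfl
  · exact val_rel h
  · exact val_p12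
  · exact val_t4
  · rw [val_append]
    have h := val_vInv
    rw [inv_eq_of_mul_eq_one_right h |>.symm, inv_mul_cancel]
  · rw [val_append]
    have h := val_wInv
    rw [inv_eq_of_mul_eq_one_right h |>.symm, inv_mul_cancel]
  · exact val_v_cube

theorem small_rels : Small.cert.rels.all (fun w => known.contains (w.flatMap sw)) = true := by decide +kernel

theorem mid_rels : Mid.cert.rels.all (fun w => known.contains (w.flatMap ew)) = true := by decide +kernel

theorem top_rels : Top.cert.rels.all (fun w => known.contains (w.flatMap ew)) = true := by decide +kernel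

/-- The cyclic subgroup of order dividing twelve. -/
noncomputable def subC : Subgroup K0 := Subgroup.zpowers (val (0 :: vWord))

theorem card_subC : Finite subC ∧ Nat.card subC ≤ 12 := by
  have h : val (0 :: vWord) ^ 12 = 1 := by rw [← val_rep]; exact val_p12
  have hfin : IsOfFinOrder (val (0 :: vWord)) := isOfFinOrder_iff_pow_eq_one.2 ⟨12, by norm_num, h⟩
  haveI := hfin.finite_zpowers.to_subtype
  refine ⟨‹_›, ?_⟩
  rw [subC, Nat.card_zpowers]
  exact orderOf_le_of_pow_eq_one (by norm_num) h

/-- The small subgroup. -/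
noncomputable def subP : Subgroup K0 :=
  Subgroup.closure {g | ∃ x ∈ ([0, 2] : List ℕ), g = actLetter sw x}

theorem zero_mem_subP : val [0] ∈ subP := by
  have h : (actLetter sw 0)⁻¹ ∈ subP := inv_mem (Subgroup.subset_closure ⟨0, by simp, rfl⟩)
  simpa [actLetter, sw] using h

theorem v_mem_subP : val vWord ∈ subP := by
  have h : (actLetter sw 2)⁻¹ ∈ subP := inv_mem (Subgroup.subset_closure ⟨2, by simp, rfl⟩)
  simpa [actLetter, sw] using h

theorem card_subP : Finite subP ∧ Nat.card subP ≤ 1320 * 12 := by
  obtain ⟨_, hC⟩ := card_subC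
  have h := Cert.card_le (setup sw_flp rfl fun w hw => val_known (List.all_eq_true.1 small_rels w hw))
    Small.valid subC subP (fun w hw => by
      rw [show Small.cert.subs = [[0, 2]] from rfl, List.mem_singleton] at hw
      subst hw
      rw [prod_actLetter, show ([0, 2] : List ℕ).flatMap sw = 0 :: vWord from rfl]
      exact inv_mem (Subgroup.mem_zpowers _))
    (by rw [show Small.cert.kl = [0, 2] from rfl]; exact le_rfl)
  exact ⟨h.1, h.2.trans (by rw [show Small.cert.n = 1320 from rfl]; exact Nat.mul_le_mul_left _ hC)⟩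

/-- The subgroup of index 1288. -/
noncomputable def subQ : Subgroup K0 :=
  Subgroup.closure {g | ∃ x ∈ ([0, 4, 6] : List ℕ), g = actLetter ew x}

theorem card_subQ : Finite subQ ∧ Nat.card subQ ≤ 144 * (1320 * 12) := by
  obtain ⟨_, hP⟩ := card_subP
  have h := Cert.card_le (setup ew_flp rfl fun w hw => val_known (List.all_eq_true.1 mid_rels w hw))
    Mid.valid subP subQ (fun w hw => by
      rw [show Mid.cert.subs = [[0], vWord] from rfl] at hw
      simp only [List.mem_cons, List.not_mem_nil, or_false] at hw
      rw [prod_actLetter]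
      rcases hw with rfl | rfl
      · exact inv_mem zero_mem_subP
      · rw [flatMap_ew_low vWord (by decide)]; exact inv_mem v_mem_subP)
    (by rw [show Mid.cert.kl = [0, 4, 6] from rfl]; exact le_rfl)
  exact ⟨h.1, h.2.trans (by rw [show Mid.cert.n = 144 from rfl]; exact Nat.mul_le_mul_left _ hP)⟩

theorem card_K0 : Finite K0 ∧ Nat.card K0 ≤ 12 * 244823040 := by
  obtain ⟨_, hQ⟩ := card_subQ
  have htop : (⊤ : Subgroup K0) ≤ Subgroup.closure {g | ∃ x ∈ Top.cert.kl, g = actLetter ew x} := by
    rw [← PresentedGroup.closure_range_of rels, Subgroup.closure_le]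
    rintro _ ⟨i, rfl⟩
    have hm : ∀ x ∈ ([0, 2] : List ℕ), L x ∈ Subgroup.closure {g | ∃ x ∈ Top.cert.kl, g = actLetter ew x} := by
      intro x hx
      have h := inv_mem (Subgroup.subset_closure (k := {g | ∃ x ∈ Top.cert.kl, g = actLetter ew x})
        ⟨x, by rw [show Top.cert.kl = [0, 2] from rfl]; exact hx, rfl⟩)
      simp only [List.mem_cons, List.not_mem_nil, or_false] at hx
      rcases hx with rfl | rfl <;> simpa [actLetter, ew, val] using h
    fin_cases i
    · exact hm 0 (by simp)
    · exact hm 2 (by simp)
  have h := Cert.card_le (setup ew_flp rfl fun w hw => val_known (List.all_eq_true.1 top_rels w hw))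
    Top.valid subQ ⊤ (fun w hw => by
      rw [show Top.cert.subs = [[0], vWord, wWord] from rfl] at hw
      simp only [List.mem_cons, List.not_mem_nil, or_false] at hw
      have hm : ∀ x ∈ ([0, 4, 6] : List ℕ), val (ew x) ∈ subQ := fun x hx => by
        have h : (actLetter ew x)⁻¹ ∈ subQ := inv_mem (Subgroup.subset_closure ⟨x, hx, rfl⟩)
        simpa [actLetter] using h
      rw [prod_actLetter]
      rcases hw with rfl | rfl | rfl
      · exact inv_mem (hm 0 (by simp))
      · rw [flatMap_ew_low vWord (by decide)]; exact inv_mem (hm 4 (by simp))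
      · rw [flatMap_ew_low wWord (by decide)]; exact inv_mem (hm 6 (by simp)))
    htop
  haveI := h.1
  refine ⟨Finite.of_equiv _ Subgroup.topEquiv.toEquiv, ?_⟩
  rw [← Nat.card_congr (Subgroup.topEquiv (G := K0)).toEquiv]
  refine h.2.trans ?_
  rw [show Top.cert.n = 1288 from rfl]
  exact (Nat.mul_le_mul_left _ hQ).trans (by norm_num)

end CfsgLib.Sporadic.J4Pres
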