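import Cfsg.Agent.Lib.Sporadic.PairEnum.Sound

/-!
# The group on two generators with the seven relators of M24 (owner: helper21)

Letters: 0 and 1 the first generator and its inverse, 2 and 3 the second one and its inverse; in the extended
alphabet 4, 5 and 6, 7 are two abbreviations with their inverses.
-/

set_option autoImplicit false
set_option maxRecDepth 20000

namespace CfsgLib.Sporadic.J4Pres

open CfsgLib.Sporadic.PairEnum (flp)

/-- Repeating a word. -/
def rep (n : ℕ) (w : List ℕ) : List ℕ := (List.replicate n w).flatten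

/-- The seven relators; the first generator stands for its inverse as well. -/
def words7 : List (List ℕ) :=
  [[0, 0], [2, 2, 2], rep 23 [0, 2], rep 12 [0, 3, 0, 2], rep 5 [0, 3, 0, 3, 0, 2, 0, 2],
    rep 4 ([0, 2] ++ rep 3 [0, 2, 0, 3]), rep 3 [0, 2, 0, 2, 0, 3] ++ rep 3 [0, 2, 0, 3, 0, 3]]

/-- A letter as an element of the free group. -/
def fr (k : ℕ) : FreeGroup (Fin 2) :=
  if h : k / 2 < 2 then (if k % 2 = 0 then FreeGroup.of ⟨k / 2, h⟩ else (FreeGroup.of ⟨k / 2, h⟩)⁻¹) else 1

/-- The relators as elements. -/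
def rels : Set (FreeGroup (Fin 2)) := {r | ∃ w ∈ words7, (w.map fr).prod = r}

/-- The presented group. -/
abbrev K0 : Type := PresentedGroup rels

/-- A letter in the presented group. -/
def L (k : ℕ) : K0 := PresentedGroup.mk rels (fr k)

/-- The value of a word. -/
def val (w : List ℕ) : K0 := (w.map L).prod

theorem val_append (u v : List ℕ) : val (u ++ v) = val u * val v := by simp [val]

theorem val_rep (n : ℕ) (w : List ℕ) : val (rep n w) = val w ^ n := by
  simp [val, rep, List.map_flatten, List.prod_flatten, List.map_replicate]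

theorem val_rel {w : List ℕ} (hw : w ∈ words7) : val w = 1 := by
  have h := PresentedGroup.one_of_mem (rels := rels) (x := (w.map fr).prod) ⟨w, hw, rfl⟩
  rwa [map_list_prod, List.map_map] at h

theorem L_big {k : ℕ} (hk : 4 ≤ k) : L k = 1 := by
  have h : ¬ k / 2 < 2 := by omega
  simp [L, fr, h]

theorem L_one' : L 1 = (L 0)⁻¹ := by simp [L, fr]
theorem L_three : L 3 = (L 2)⁻¹ := by simp [L, fr]

theorem L_zero_mul (z : K0) : L 0 * (L 0 * z) = z := by
  have h : L 0 * L 0 = 1 := by simpa [val] using val_rel (w := [0, 0]) (by simp [words7])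
  rw [← mul_assoc, h, one_mul]

theorem L_zero_inv : (L 0)⁻¹ = L 0 := inv_eq_of_mul_eq_one_right (by simpa using L_zero_mul 1)

theorem L_one : L 1 = L 0 := by rw [L_one', L_zero_inv]

theorem L_two_cube (z : K0) : L 2 * (L 2 * (L 2 * z)) = z := by
  have h : L 2 * (L 2 * L 2) = 1 := by simpa [val] using val_rel (w := [2, 2, 2]) (by simp [words7])
  rw [← mul_assoc (L 2) (L 2) z, ← mul_assoc, h, one_mul]

/-- The element of order three generating, with the first generator, a subgroup of order 1320. -/
def vWord : List ℕ := [3, 0, 2, 0, 2]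

/-- Its inverse. -/
def vInv : List ℕ := [3, 0, 3, 0, 2]

/-- A further element, giving a subgroup of index 1288. -/
def wWord : List ℕ := [2, 0, 3, 0, 3, 0, 3, 0, 2, 0, 2, 0, 2, 0, 3]

/-- Its inverse. -/
def wInv : List ℕ := [2, 0, 3, 0, 3, 0, 3, 0, 2, 0, 2, 0, 2, 0, 3]

theorem val_vInv : val vWord * val vInv = 1 := by
  simp [val, vWord, vInv, L_three, mul_assoc, L_zero_mul]

theorem val_wInv : val wWord * val wInv = 1 := by
  simp [val, wWord, wInv, L_three, mul_assoc, L_zero_mul]

/-- The extended alphabet. -/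
def ew : ℕ → List ℕ
  | 0 => [0] | 1 => [1] | 2 => [2] | 3 => [3]
  | 4 => vWord | 5 => vInv | 6 => wWord | 7 => wInv
  | _ => []

/-- The alphabet of the small subgroup. -/
def sw : ℕ → List ℕ
  | 0 => [0] | 1 => [0] | 2 => vWord | 3 => vInv
  | _ => []

/-- Letters of certificates: inverses of values. -/
noncomputable def actLetter (e : ℕ → List ℕ) (k : ℕ) : K0 := (val (e k))⁻¹

theorem prod_actLetter (e : ℕ → List ℕ) : ∀ w : List ℕ,
    (w.reverse.map (actLetter e)).prod = (val (w.flatMap e))⁻¹
  | [] => by simp [val]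
  | k :: w => by
    rw [List.reverse_cons, List.map_append, List.prod_append, prod_actLetter e w, List.map_singleton,
      List.prod_singleton, List.flatMap_cons, val_append, mul_inv_rev]
    rfl

theorem flp_eq (k : ℕ) : flp k = k ^^^ 1 := rfl

theorem flp_pairs (e : ℕ → List ℕ) (h0 : ∀ i, i < 4 → val (e (2 * i)) * val (e (2 * i + 1)) = 1)
    (h8 : ∀ k, 8 ≤ k → e k = []) (k : ℕ) : actLetter e (flp k) = (actLetter e k)⁻¹ := by
  rw [flp_eq, actLetter, actLetter, inv_inv]
  by_cases hk : k < 8
  · have a0 := h0 0 (by norm_num)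
    have a1 := h0 1 (by norm_num)
    have a2 := h0 2 (by norm_num)
    have a3 := h0 3 (by norm_num)
    interval_cases k
    exacts [inv_eq_of_mul_eq_one_left a0, inv_eq_of_mul_eq_one_right a0, inv_eq_of_mul_eq_one_left a1,
      inv_eq_of_mul_eq_one_right a1, inv_eq_of_mul_eq_one_left a2, inv_eq_of_mul_eq_one_right a2,
      inv_eq_of_mul_eq_one_left a3, inv_eq_of_mul_eq_one_right a3]
  · have hd : (k ^^^ 1) / 2 = k / 2 := by
      rw [← Nat.shiftRight_one, Nat.shiftRight_xor_distrib, Nat.shiftRight_one]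
      simp
    rw [h8 k (by omega), h8 (k ^^^ 1) (by omega)]
    simp [val]

theorem ew_flp : ∀ k, actLetter ew (flp k) = (actLetter ew k)⁻¹ := by
  refine flp_pairs ew (fun i hi => ?_) (fun k hk => ?_)
  · interval_cases i
    · simp [val, ew, L_one']
    · simp [val, ew, L_three]
    · exact val_vInv
    · exact val_wInv
  · match k with
    | 0 | 1 | 2 | 3 | 4 | 5 | 6 | 7 => omega
    | _ + 8 => rfl

theorem sw_flp : ∀ k, actLetter sw (flp k) = (actLetter sw k)⁻¹ := by
  refine flp_pairs sw (fun i hi => ?_) (fun k hk => ?_)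
  · interval_cases i
    · simpa [val, sw] using L_zero_mul 1
    · exact val_vInv
    · simp [val, sw]
    · simp [val, sw]
  · match k with
    | 0 | 1 | 2 | 3 => omega
    | _ + 4 => rfl

theorem setup {C : PairEnum.Cert} {e : ℕ → List ℕ} (hinv : ∀ k, actLetter e (flp k) = (actLetter e k)⁻¹)
    (hbig : e CfsgLib.ThreeTrans.CosetIndex.eqLetter = []) (h : ∀ w ∈ C.rels, val (w.flatMap e) = 1) :
    C.Setup (actLetter e) where
  inv := hinv
  eq := by simp [actLetter, hbig, val]
  rel w hw := by rw [prod_actLetter, h w hw, inv_one]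

end CfsgLib.Sporadic.J4Pres
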